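import Mathlib

universe u

namespace Groth.Agent.H5FlatQuot

open Module

/-- If `φ : M → N` is surjective with `N` flat, then `ker φ ∩ I M = I (ker φ)`. -/
theorem mem_smul_ker_of_flat {R M N : Type*} [CommRing R] [AddCommGroup M] [Module R M]
    [AddCommGroup N] [Module R N] [Module.Flat R N] (φ : M →ₗ[R] N) (hφ : Function.Surjective φ)
    (I : Ideal R) (x : M) (hx : φ x = 0) (hxI : x ∈ I • (⊤ : Submodule R M)) :
    x ∈ I • LinearMap.ker φ := by
  classical
  -- write x = ∑ a_i m_i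
  obtain ⟨ι, _, a, m, ha, rfl⟩ : ∃ (ι : Type) (_ : Fintype ι) (a : ι → R) (m : ι → M),
      (∀ i, a i ∈ I) ∧ x = ∑ i, a i • m i := by
    refine Submodule.smul_induction_on hxI ?_ ?_
    · intro r hr n _
      exact ⟨Unit, inferInstance, fun _ => r, fun _ => n, fun _ => hr, by simp⟩
    · rintro x y ⟨ι, _, a, m, ha, rfl⟩ ⟨κ, _, b, n, hb, rfl⟩
      refine ⟨ι ⊕ κ, inferInstance, Sum.elim a b, Sum.elim m n, ?_, ?_⟩
      · rintro (i | j)
        · exact ha i
        · exact hb j
      · simp [Fintype.sum_sum_type]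
  have hrel : ∑ i, a i • φ (m i) = 0 := by
    rw [← hx, map_sum]; simp
  obtain ⟨k, b, y, hy, hb⟩ := Module.Flat.isTrivialRelation_of_sum_smul_eq_zero hrel
  choose y' hy' using fun j => hφ (y j)
  have hk : ∀ i, m i - ∑ j, b i j • y' j ∈ LinearMap.ker φ := by
    intro i
    have hyi : φ (m i) = ∑ j, b i j • y j := hy i
    rw [LinearMap.mem_ker, map_sub, map_sum, hyi]
    simp [hy']
  have hsum : ∑ i, a i • m i = ∑ i, a i • (m i - ∑ j, b i j • y' j) := by
    have h2 : ∑ i, a i • ∑ j, b i j • y' j = 0 := by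
      simp_rw [Finset.smul_sum, smul_smul]
      rw [Finset.sum_comm]
      apply Finset.sum_eq_zero
      intro j _
      rw [← Finset.sum_smul, hb j, zero_smul]
    simp_rw [smul_sub]
    rw [Finset.sum_sub_distrib, h2, sub_zero]
  rw [hsum]
  exact Submodule.sum_mem _ fun i _ => Submodule.smul_mem_smul (ha i) (hk i)

end Groth.Agent.H5FlatQuot
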