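import Mathlib
import Groth.Agent.Lib.Helper5.FlatQuot.A

universe u

namespace Groth.Agent.H5FlatQuot

open Module

theorem ker_fg_of_finiteType (R S S' : Type u) [CommRing R] [CommRing S]
    [CommRing S'] [Algebra R S] [Algebra R S'] [Algebra.FiniteType R S]
    [Algebra.FinitePresentation R S'] (f : S →ₐ[R] S') (hf : Function.Surjective f) :
    (RingHom.ker f.toRingHom).FG := by
  obtain ⟨n, π, hπ⟩ := Algebra.FiniteType.iff_quotient_mvPolynomial''.1
    (inferInstance : Algebra.FiniteType R S)
  have h1 : (RingHom.ker (f.comp π).toRingHom).FG :=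
    Algebra.FinitePresentation.ker_fg_of_mvPolynomial (f.comp π) (hf.comp hπ)
  have h2 : RingHom.ker f.toRingHom = (RingHom.ker (f.comp π).toRingHom).map π.toRingHom := by
    apply le_antisymm
    · intro x hx
      obtain ⟨y, rfl⟩ := hπ x
      apply Ideal.mem_map_of_mem
      rw [RingHom.mem_ker] at hx ⊢
      exact hx
    · rw [Ideal.map_le_iff_le_comap]
      intro y hy
      rw [RingHom.mem_ker] at hy
      rw [Ideal.mem_comap, RingHom.mem_ker]
      exact hy
  rw [h2]
  exact h1.map _

theorem main (R S S' : Type u) [CommRing R] [CommRing S]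
    [CommRing S'] [Algebra R S] [Algebra R S'] [Algebra.FiniteType R S]
    [Algebra.FinitePresentation R S']
    (I : Ideal R) (f : S →ₐ[R] S') (hf : Function.Surjective f) (q : Ideal S) [q.IsPrime]
    (hq : I.map (algebraMap R S) ≤ q)
    (hker : ∀ j : S, f j = 0 →
      algebraMap S (Localization.AtPrime q) j ∈ I.map (algebraMap R (Localization.AtPrime q)))
    (hflat : letI : Module S S' := f.toRingHom.toModule
      Module.Flat R (LocalizedModule q.primeCompl S')) :
    ∃ g : S, g ∉ q ∧ Function.Bijective (Localization.awayMap f.toRingHom g) := by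
  classical
  letI : Module S S' := f.toRingHom.toModule
  haveI : IsScalarTower R S S' := ⟨fun r s x => by
    show f (r • s) * x = r • (f s * x)
    rw [map_smul, smul_mul_assoc]⟩
  have hsm : ∀ (s : S) (x : S'), s • x = f s * x := fun _ _ => rfl
  have hJfg := ker_fg_of_finiteType R S S' f hf
  set J : Ideal S := RingHom.ker f.toRingHom with hJ
  have hJmem : ∀ j, j ∈ J ↔ f j = 0 := fun j => RingHom.mem_ker
  let Sq := Localization.AtPrime q
  let fl : S →ₗ[S] S' :=
    { toFun := f
      map_add' := map_add f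
      map_smul' := fun s x => by simp [hsm] }
  let φS : Sq →ₗ[S] LocalizedModule q.primeCompl S' :=
    IsLocalizedModule.map q.primeCompl (Algebra.linearMap S Sq)
      (LocalizedModule.mkLinearMap q.primeCompl S') fl
  have hφSalg : ∀ s : S, φS (algebraMap S Sq s) = LocalizedModule.mkLinearMap q.primeCompl S' (f s) :=
    fun s => IsLocalizedModule.map_apply q.primeCompl (Algebra.linearMap S Sq)
      (LocalizedModule.mkLinearMap q.primeCompl S') fl s
  have hφSsurj : Function.Surjective φS :=
    IsLocalizedModule.map_surjective q.primeCompl (Algebra.linearMap S Sq)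
      (LocalizedModule.mkLinearMap q.primeCompl S') fl hf
  let φ : Sq →ₗ[R] LocalizedModule q.primeCompl S' :=
    { toFun := φS
      map_add' := map_add φS
      map_smul' := fun r x => by
        rw [RingHom.id_apply, ← algebraMap_smul S r x, map_smul, algebraMap_smul] }
  have hφ : ∀ x, φ x = φS x := fun _ => rfl
  set Jq : Ideal Sq := J.map (algebraMap S Sq) with hJq
  -- kernel of φ is Jq
  have hker1 : ∀ x : Sq, φS x = 0 → x ∈ Jq := by
    intro x hx
    obtain ⟨⟨s, t⟩, hst⟩ := IsLocalization.surj q.primeCompl x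
    simp only at hst
    have h1 : φS (algebraMap S Sq s) = 0 := by
      rw [← hst, mul_comm, ← Algebra.smul_def, map_smul, hx, smul_zero]
    rw [hφSalg, IsLocalizedModule.eq_zero_iff q.primeCompl] at h1
    obtain ⟨u, hu⟩ := h1
    have hus : (u : S) * s ∈ J := by
      rw [hJmem, map_mul]; exact hu
    have h2 : x * algebraMap S Sq ((t : S) * (u : S)) ∈ Jq := by
      have : x * algebraMap S Sq ((t : S) * (u : S)) = algebraMap S Sq ((u : S) * s) := by
        rw [map_mul, ← mul_assoc, hst, map_mul, mul_comm]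
      rw [this]
      exact Ideal.mem_map_of_mem _ hus
    have hunit : IsUnit (algebraMap S Sq ((t : S) * (u : S))) :=
      IsLocalization.map_units Sq (t * u)
    exact (Ideal.mul_unit_mem_iff_mem _ hunit).1 h2
  have hker2 : ∀ x ∈ Jq, φS x = 0 := by
    intro x hx
    rw [hJq, IsLocalization.mem_map_algebraMap_iff q.primeCompl] at hx
    obtain ⟨⟨j, t⟩, hjt⟩ := hx
    simp only at hjt
    have h1 : (t : S) • φS x = 0 := by
      rw [← map_smul, Algebra.smul_def, mul_comm, hjt, hφSalg, (hJmem _).1 j.2, map_zero]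
    exact (IsLocalizedModule.smul_injective (LocalizedModule.mkLinearMap q.primeCompl S') t)
      (by show t • φS x = t • (0 : LocalizedModule q.primeCompl S'); rw [smul_zero]; exact h1)
  have hkerI : ∀ x ∈ Jq, x ∈ I.map (algebraMap R Sq) := by
    intro x hx
    rw [hJq, IsLocalization.mem_map_algebraMap_iff q.primeCompl] at hx
    obtain ⟨⟨j, t⟩, hjt⟩ := hx
    simp only at hjt
    have h1 := hker j ((hJmem _).1 j.2)
    rw [← hjt] at h1
    exact (Ideal.mul_unit_mem_iff_mem _ (IsLocalization.map_units Sq t)).1 h1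
  haveI : Module.Flat R (LocalizedModule q.primeCompl S') := hflat
  have hImax : ∀ r ∈ I, algebraMap R Sq r ∈ IsLocalRing.maximalIdeal Sq := by
    intro r hr
    rw [IsScalarTower.algebraMap_apply R S Sq, IsLocalization.AtPrime.to_map_mem_maximal_iff Sq q]
    exact hq (Ideal.mem_map_of_mem _ hr)
  have hle : Jq ≤ IsLocalRing.maximalIdeal Sq • Jq := by
    intro x hx
    have h3 : x ∈ I • LinearMap.ker φ := by
      apply mem_smul_ker_of_flat φ hφSsurj I x (hker2 x hx)
      rw [Ideal.smul_top_eq_map]
      exact hkerI x hx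
    have h4 : I • LinearMap.ker φ ≤ (IsLocalRing.maximalIdeal Sq • Jq).restrictScalars R := by
      rw [Submodule.smul_le]
      intro r hr n hn
      rw [Submodule.restrictScalars_mem, ← algebraMap_smul Sq r n]
      exact Submodule.smul_mem_smul (hImax r hr) (hker1 n hn)
    exact h4 h3
  have hJq0 : Jq = ⊥ :=
    Submodule.eq_bot_of_le_smul_of_le_jacobson_bot (IsLocalRing.maximalIdeal Sq) Jq
      (hJfg.map _) hle (IsLocalRing.maximalIdeal_le_jacobson _)
  have hann : ∀ j ∈ J, ∃ u : S, u ∉ q ∧ u * j = 0 := by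
    intro j hj
    have : algebraMap S Sq j = 0 := by
      have : algebraMap S Sq j ∈ Jq := Ideal.mem_map_of_mem _ hj
      rwa [hJq0] at this
    rw [IsLocalization.map_eq_zero_iff q.primeCompl] at this
    obtain ⟨u, hu⟩ := this
    exact ⟨u, u.2, hu⟩
  obtain ⟨T, hT⟩ := hJfg
  choose! u hu using hann
  refine ⟨∏ j ∈ T, u j, ?_, ?_⟩
  · intro hmem
    rw [Ideal.IsPrime.prod_mem_iff] at hmem
    obtain ⟨j, hjT, hj⟩ := hmem
    exact (hu j (hT ▸ Ideal.subset_span hjT)).1 hj
  · set g := ∏ j ∈ T, u j with hg
    have hgJ : ∀ j ∈ J, g * j = 0 := by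
      intro j hj
      rw [← hT] at hj
      refine Submodule.span_induction ?_ ?_ ?_ ?_ hj
      · intro x hx
        have hxJ : x ∈ J := hT ▸ Ideal.subset_span hx
        rw [hg, ← Finset.mul_prod_erase T u hx, mul_comm (u x), mul_assoc, (hu x hxJ).2, mul_zero]
      · simp
      · intro x y _ _ hx hy
        rw [mul_add, hx, hy, add_zero]
      · intro a x _ hx
        rw [smul_eq_mul, mul_left_comm, hx, mul_zero]
    constructor
    · rw [injective_iff_map_eq_zero]
      intro x hx
      obtain ⟨s, t, rfl⟩ := IsLocalization.exists_mk'_eq (Submonoid.powers g) x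
      rw [Localization.awayMap, IsLocalization.Away.map, IsLocalization.map_mk',
        IsLocalization.mk'_eq_zero_iff] at hx
      obtain ⟨⟨m, k, hk⟩, hm⟩ := hx
      simp only at hk hm
      rw [IsLocalization.mk'_eq_zero_iff]
      have h1 : g ^ k * s ∈ J := by
        rw [hJmem, map_mul, map_pow]
        rw [← hk] at hm
        exact hm
      refine ⟨⟨g ^ (k + 1), k + 1, rfl⟩, ?_⟩
      show g ^ (k + 1) * s = 0
      rw [pow_succ', mul_assoc]
      exact hgJ _ h1
    · intro y
      obtain ⟨s', ⟨t', k, hk⟩, rfl⟩ := IsLocalization.exists_mk'_eq (Submonoid.powers (f.toRingHom g)) y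
      obtain ⟨s, rfl⟩ := hf s'
      refine ⟨IsLocalization.mk' _ s (⟨g ^ k, k, rfl⟩ : Submonoid.powers g), ?_⟩
      rw [Localization.awayMap, IsLocalization.Away.map, IsLocalization.map_mk']
      congr 1
      apply Subtype.ext
      simp only [map_pow]
      exact hk

end Groth.Agent.H5FlatQuot
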